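import Groth.Agent.Lib.DualRing.LocalizedEH
import Groth.Prelude.Def_CAlg
import Mathlib.RingTheory.Ideal.MinimalPrime.Noetherian

/-!
# Finitely many points of depth exactly `k` and larger dimension under `(S_k)`
-/

set_option autoImplicit false
universe u

open CategoryTheory GrothLib.DualRing

attribute [local instance] HasDerivedCategory.standard

namespace GrothLib.SkFinite3

variable {A : Type u} [CommRing A] [IsNoetherianRing A]

theorem finite_minimal_of_isClosed {W : Set (PrimeSpectrum A)} (hW : IsClosed W) :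
    {p | p ∈ W ∧ ∀ q ∈ W, ¬ q < p}.Finite := by
  obtain ⟨I, rfl⟩ := (PrimeSpectrum.isClosed_iff_zeroLocus_ideal W).mp hW
  refine Set.Finite.of_finite_image (f := PrimeSpectrum.asIdeal)
    ((Ideal.finite_minimalPrimes_of_isNoetherianRing A I).subset ?_) (fun a _ b _ h => PrimeSpectrum.ext h)
  rintro _ ⟨p, ⟨hp, hmin⟩, rfl⟩
  refine ⟨⟨p.isPrime, hp⟩, fun P hP hPp => ?_⟩
  by_contra hne
  exact hmin ⟨P, hP.1⟩ hP.2 (lt_of_le_not_ge hPp hne)

variable (M : Type u) [AddCommGroup M] [Module A M] [Module.Finite A M]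

theorem mem_support_of_depth_eq {p : PrimeSpectrum A} {k : ℕ}
    (h : LocCoh.depth (Localization.AtPrime p.asIdeal) (LocalizedModule p.asIdeal.primeCompl M) = k) :
    p ∈ Module.support A M := by
  rw [Module.mem_support_iff, ← not_subsingleton_iff_nontrivial]
  intro hs
  rw [GrothLib.Depth.depth_eq_top_of_subsingleton] at h
  exact ENat.top_ne_coe k h

/-- Finiteness of the set of points of depth `k` and dimension bigger than `k`. -/
theorem finite_setOf_depth_eq {ω : Dual.D A} (hω : Dual.IsDualizing A ω) (k : ℕ) (hM : LocCoh.HasSk k A M) :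
    {p : PrimeSpectrum A | LocCoh.depth (Localization.AtPrime p.asIdeal) (LocalizedModule p.asIdeal.primeCompl M) = k ∧
      (k : WithBot ℕ∞) < Module.supportDim (Localization.AtPrime p.asIdeal)
        (LocalizedModule p.asIdeal.primeCompl M)}.Finite := by
  obtain ⟨a, b, hab⟩ := exists_deg_range hω
  let S : ℤ → Set (PrimeSpectrum A) := fun i => Module.support A (EH ω (Dual.inD A M) i)
  have hS : ∀ i, IsClosed (S i) := fun i => by
    haveI := finite_EH hω M i
    show IsClosed (Module.support A _)
    rw [Module.support_eq_zeroLocus]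
    exact PrimeSpectrum.isClosed_zeroLocus _
  have hrange : ∀ i p, p ∈ S i → i ∈ Set.Icc a b := fun i p hi => by
    have h : len p.asIdeal (EH ω (Dual.inD A M) i) ≠ 0 :=
      (nontrivial_localized_iff p.asIdeal _).mp (Module.mem_support_iff.mp hi)
    obtain ⟨r, hr, -, -, h1, h2⟩ := exists_quotient_bounds hω M h
    exact ⟨(hab ⟨r, hr⟩).1.trans h1, h2.trans (hab p).2⟩
  refine ((Set.finite_Icc a b).prod (Set.finite_Icc a b)).biUnion
    (fun ji _ => finite_minimal_of_isClosed ((hS ji.1).inter (hS ji.2))) |>.subset ?_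
  rintro p ⟨hk, hlt⟩
  obtain ⟨k', hk', hkmem, -, huniq⟩ := exists_degrees hω p M (mem_support_of_depth_eq M hk)
  obtain rfl : k' = k := by
    rw [hk] at hk'
    exact_mod_cast hk'.symm
  obtain ⟨i, hi, hne⟩ : ∃ i, p ∈ S i ∧ i ≠ deg hω p.asIdeal - k' := by
    by_contra hno
    push Not at hno
    exact hlt.ne (huniq.mpr hno)
  refine Set.mem_iUnion₂.mpr ⟨(deg hω p.asIdeal - k', i), ⟨hrange _ p hkmem, hrange i p hi⟩, ⟨hkmem, hi⟩, ?_⟩
  rintro q ⟨hqj, hqi⟩ hqp
  have hq : q ∈ Module.support A M := by
    by_contra hq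
    have h : len q.asIdeal (EH ω (Dual.inD A M) i) ≠ 0 :=
      (nontrivial_localized_iff q.asIdeal _).mp (Module.mem_support_iff.mp hqi)
    refine h (len_EH_of_len_eq_zero ω q.asIdeal ?_ i)
    by_contra h0
    exact hq (Module.mem_support_iff.mpr ((nontrivial_localized_iff q.asIdeal M).mpr h0))
  obtain ⟨kq, hkq, hkqmem, hle, huniq'⟩ := exists_degrees hω q M hq
  have hdeg : deg hω q.asIdeal < deg hω p.asIdeal := degS_strictMono hω hqp
  have hkqlt : kq < k' := by
    have := hle _ hqj
    omega
  have hdim : (kq : WithBot ℕ∞) =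
      Module.supportDim (Localization.AtPrime q.asIdeal) (LocalizedModule q.asIdeal.primeCompl M) := by
    have hsk := hM q.asIdeal
    rw [hkq] at hsk
    have h1 : (kq : WithBot ℕ∞) ≤
        Module.supportDim (Localization.AtPrime q.asIdeal) (LocalizedModule q.asIdeal.primeCompl M) := by
      haveI : Nontrivial (LocalizedModule q.asIdeal.primeCompl M) := Module.mem_support_iff.mp hq
      haveI : Module.Finite (Localization.AtPrime q.asIdeal) (LocalizedModule q.asIdeal.primeCompl M) :=
        Module.Finite.equiv (LocalizedModule.isBaseChange q.asIdeal.primeCompl M).equiv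
      have h := GrothLib.Depth.depth_le_supportDim (R := Localization.AtPrime q.asIdeal)
        (LocalizedModule q.asIdeal.primeCompl M)
      rw [hkq] at h
      exact_mod_cast h
    rcases min_le_iff.mp hsk with h | h
    · exact absurd (by exact_mod_cast h : k' ≤ kq) (by omega)
    · exact le_antisymm h1 (by exact_mod_cast h)
  exact hne ((huniq'.mp hdim i hqi).trans (huniq'.mp hdim _ hqj).symm)

end GrothLib.SkFinite3
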